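import Groth.Agent.Hensel20.SmoothLift
import Mathlib.Algebra.Ring.Action.Basic
import Mathlib.Algebra.MvPolynomial.PDeriv

/-! Fixed points of a finite group acting semilinearly on a smooth closed subscheme of affine space over a
Henselian local ring. -/

set_option autoImplicit false

open MvPolynomial IsLocalRing

namespace Groth.Agent.EqHens25

universe u

variable {A : Type u} [CommRing A] {G : Type u} [Group G] [MulSemiringAction G A] {N : ℕ} [MulAction G (Fin N)]

/-- The semilinear action on polynomials permuting the variables. -/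
noncomputable def act (g : G) : MvPolynomial (Fin N) A →+* MvPolynomial (Fin N) A :=
  eval₂Hom (C.comp (MulSemiringAction.toRingHom G A g)) fun k => X (g • k)

@[simp] theorem act_C (g : G) (r : A) : act (N := N) g (C r) = C (g • r) := by simp [act]

@[simp] theorem act_X (g : G) (k : Fin N) : act g (X k : MvPolynomial (Fin N) A) = X (g • k) := by simp [act]

theorem act_mul (g h : G) (p : MvPolynomial (Fin N) A) : act (g * h) p = act g (act h p) := by
  induction p using MvPolynomial.induction_on with
  | C a => simp [mul_smul]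
  | add p q hp hq => simp [hp, hq]
  | mul_X p i hp => simp [hp, mul_smul]

theorem act_one (p : MvPolynomial (Fin N) A) : act (1 : G) p = p := by
  induction p using MvPolynomial.induction_on with
  | C a => simp
  | add p q hp hq => simp [hp, hq]
  | mul_X p i hp => simp [hp]

theorem eval_act (g : G) (a : Fin N → A) (p : MvPolynomial (Fin N) A) :
    eval a (act g p) = g • eval (fun k => g⁻¹ • a (g • k)) p := by
  induction p using MvPolynomial.induction_on with
  | C r => simp
  | add p q hp hq => simp [hp, hq, smul_add]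
  | mul_X p i hp => simp [hp, smul_mul']

theorem pderiv_act (g : G) (k : Fin N) (p : MvPolynomial (Fin N) A) :
    pderiv (g • k) (act g p) = act g (pderiv k p) := by
  induction p using MvPolynomial.induction_on with
  | C r => simp
  | add p q hp hq => simp [hp, hq]
  | mul_X p i hp =>
    simp only [map_mul, act_X, pderiv_mul, hp, map_add]
    by_cases h : i = k
    · subst h; simp
    · have h' : g • i ≠ g • k := fun e => h (MulAction.injective g e)
      simp [pderiv_X_of_ne h, pderiv_X_of_ne h']

theorem act_mem_sq {K : Ideal (MvPolynomial (Fin N) A)} (g : G) (hK : ∀ p ∈ K, act g p ∈ K)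
    {p : MvPolynomial (Fin N) A} (hp : p ∈ K ^ 2) : act g p ∈ K ^ 2 := by
  rw [sq] at hp ⊢
  refine Submodule.mul_induction_on hp (fun a ha b hb => ?_) fun a b ha hb => ?_
  · rw [map_mul]; exact Ideal.mul_mem_mul (hK a ha) (hK b hb)
  · rw [map_add]; exact add_mem ha hb

theorem eval_sub_mem {n : ℕ} {I : Ideal A} (a b : Fin n → A) (h : ∀ k, a k - b k ∈ I)
    (p : MvPolynomial (Fin n) A) : eval a p - eval b p ∈ I := by
  rw [← Ideal.Quotient.eq]
  have e : ∀ x : Fin n → A, Ideal.Quotient.mk I (eval x p) =
      eval₂ (Ideal.Quotient.mk I) (fun k => Ideal.Quotient.mk I (x k)) p := fun x => eval₂_comp _ x p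
  rw [e, e]
  congr 1
  funext k
  exact Ideal.Quotient.eq.mpr (h k)

section Unique

variable [IsLocalRing A]

/-- Roots of a square system with Jacobian congruent to `1` are unique in their residue class. -/
theorem root_unique (F : Fin N → MvPolynomial (Fin N) A) (a b : Fin N → A)
    (ha : ∀ j, eval a (F j) = 0) (hb : ∀ j, eval b (F j) = 0) (hab : ∀ k, b k - a k ∈ maximalIdeal A)
    (hJ : ∀ j k, eval a (pderiv k (F j)) - (if j = k then 1 else 0) ∈ maximalIdeal A) : a = b := by
  classical
  let J : Ideal A := Ideal.span (Set.range fun k => b k - a k)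
  have hJm : J ≤ maximalIdeal A := Ideal.span_le.mpr (by rintro _ ⟨k, rfl⟩; exact hab k)
  have hle : J ≤ maximalIdeal A • J := by
    refine Ideal.span_le.mpr ?_
    rintro _ ⟨j, rfl⟩
    have h1 := Hensel20.aeval_add_sub_mem (A := A) (J := J) a (fun k => b k - a k)
      (fun k => Ideal.subset_span ⟨k, rfl⟩) (F j)
    rw [show a + (fun k => b k - a k) = b from funext fun k => add_sub_cancel _ _] at h1
    simp only [aeval_eq_eval, ha, hb, sub_self, zero_sub, neg_mem_iff] at h1
    have h2 : J ^ 2 ≤ maximalIdeal A • J := by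
      rw [sq, smul_eq_mul]; exact Ideal.mul_mono_left hJm
    have h3 : ∑ k, (eval a (pderiv k (F j)) - if j = k then 1 else 0) * (b k - a k) ∈ maximalIdeal A • J :=
      sum_mem fun k _ => Submodule.smul_mem_smul (hJ j k) (Ideal.subset_span ⟨k, rfl⟩)
    have h4 := sub_mem (h2 h1) h3
    simp only [sub_mul, Finset.sum_sub_distrib, sub_sub_cancel, ite_mul, one_mul, zero_mul,
      Finset.sum_ite_eq, Finset.mem_univ, if_true] at h4
    exact h4
  have hbot := Submodule.eq_bot_of_le_smul_of_le_jacobson_bot (maximalIdeal A) J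
    (Submodule.fg_span (Set.finite_range _)) hle (IsLocalRing.maximalIdeal_le_jacobson _)
  funext k
  have : b k - a k ∈ J := Ideal.subset_span ⟨k, rfl⟩
  rw [hbot, Submodule.mem_bot, sub_eq_zero] at this
  exact this.symm

end Unique

theorem exists_averaged_split [Fintype G] (hG : IsUnit (Fintype.card G : A))
    (K : Ideal (MvPolynomial (Fin N) A)) (hK : ∀ (g : G), ∀ p ∈ K, act g p ∈ K)
    (c : Fin N → MvPolynomial (Fin N) A) (hc : ∀ k, c k ∈ K)
    (hsplit : ∀ p ∈ K, p - ∑ k, pderiv k p * c k ∈ K ^ 2) :
    ∃ h : Fin N → MvPolynomial (Fin N) A, (∀ k, h k ∈ K) ∧ (∀ p ∈ K, p - ∑ k, pderiv k p * h k ∈ K ^ 2) ∧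
      ∀ (g : G) k, act g (h k) = h (g • k) := by
  obtain ⟨u, hu⟩ := hG.exists_left_inv
  have hug : ∀ g : G, g • u = u := fun g => by
    have h1 : (g • u) * (Fintype.card G : A) = 1 := by
      have := congrArg (g • ·) hu
      simpa [smul_mul', show g • (Fintype.card G : A) = Fintype.card G from
        map_natCast (MulSemiringAction.toRingHom G A g) _] using this
    exact hG.mul_right_cancel (h1.trans hu.symm)
  refine ⟨fun k => C u * ∑ g : G, act g (c (g⁻¹ • k)), fun k => K.mul_mem_left _ (sum_mem fun g _ =>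
    hK g _ (hc _)), fun p hp => ?_, fun g k => ?_⟩
  · have key : ∀ g : G, p - ∑ k, pderiv k p * act g (c (g⁻¹ • k)) ∈ K ^ 2 := by
      intro g
      have h1 := act_mem_sq g (hK g) (hsplit _ (hK g⁻¹ p hp))
      rw [map_sub, ← act_mul, mul_inv_cancel, act_one, map_sum] at h1
      convert h1 using 2
      refine (Fintype.sum_equiv (MulAction.toPerm g) _ _ fun k => ?_).symm
      simp only [MulAction.toPerm_apply, map_mul, ← pderiv_act, ← act_mul, mul_inv_cancel, act_one,
        inv_smul_smul]
    have e : p - ∑ k, pderiv k p * (C u * ∑ g : G, act g (c (g⁻¹ • k))) =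
        C u * ∑ g : G, (p - ∑ k, pderiv k p * act g (c (g⁻¹ • k))) := by
      simp only [Finset.sum_sub_distrib, Finset.sum_const, Finset.card_univ, nsmul_eq_mul, mul_sub,
        Finset.mul_sum, ← mul_assoc]
      rw [← map_natCast (C : A →+* MvPolynomial (Fin N) A), ← map_mul, hu, map_one, one_mul, Finset.sum_comm]
      congr 1
      exact Finset.sum_congr rfl fun k _ => Finset.sum_congr rfl fun g _ => by ring
    rw [e]
    exact (K ^ 2).mul_mem_left _ (sum_mem fun g _ => key g)
  · simp only [map_mul, act_C, hug, map_sum, ← act_mul]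
    congr 1
    refine Fintype.sum_equiv (Equiv.mulLeft g) _ _ fun x => ?_
    simp [mul_smul]

/-- Fixed points lift. -/
theorem exists_fixed_point [HenselianLocalRing A] [Fintype G] (hG : IsUnit (Fintype.card G : A))
    (htriv : ∀ (g : G) (a : A), g • a - a ∈ maximalIdeal A)
    (K : Ideal (MvPolynomial (Fin N) A)) (hfg : K.FG) (hK : ∀ (g : G), ∀ p ∈ K, act g p ∈ K)
    (c : Fin N → MvPolynomial (Fin N) A) (hc : ∀ k, c k ∈ K)
    (hsplit : ∀ p ∈ K, p - ∑ k, pderiv k p * c k ∈ K ^ 2)
    (x : Fin N → A) (hx : ∀ p ∈ K, eval x p ∈ maximalIdeal A)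
    (hfix : ∀ (g : G) k, x (g • k) - x k ∈ maximalIdeal A) :
    ∃ a : Fin N → A, (∀ p ∈ K, eval a p = 0) ∧ (∀ (g : G) k, g • a k = a (g • k)) ∧
      ∀ k, a k - x k ∈ maximalIdeal A := by
  classical
  obtain ⟨h, hhK, hh, hhg⟩ := exists_averaged_split hG K hK c hc hsplit
  obtain ⟨u, hu⟩ := hG.exists_left_inv
  have hug : ∀ g : G, g • u = u := fun g => by
    have h1 : (g • u) * (Fintype.card G : A) = 1 := by
      have := congrArg (g • ·) hu
      simpa [smul_mul', show g • (Fintype.card G : A) = Fintype.card G from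
        map_natCast (MulSemiringAction.toRingHom G A g) _] using this
    exact hG.mul_right_cancel (h1.trans hu.symm)
  let y : Fin N → A := fun k => u * ∑ g : G, g • x (g⁻¹ • k)
  have hyg : ∀ (g : G) k, g • y k = y (g • k) := fun g k => by
    simp only [y, smul_mul', hug, Finset.smul_sum]
    congr 1
    refine Fintype.sum_equiv (Equiv.mulLeft g) _ _ fun z => ?_
    simp [mul_smul]
  have hyx : ∀ k, y k - x k ∈ maximalIdeal A := fun k => by
    have e : y k - x k = u * ∑ g : G, (g • x (g⁻¹ • k) - x k) := by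
      simp only [y, Finset.sum_sub_distrib, Finset.sum_const, Finset.card_univ, nsmul_eq_mul, mul_sub,
        ← mul_assoc, hu, one_mul]
    rw [e]
    refine Ideal.mul_mem_left _ _ (sum_mem fun g _ => ?_)
    rw [show g • x (g⁻¹ • k) - x k = (g • x (g⁻¹ • k) - x (g⁻¹ • k)) + (x (g⁻¹ • k) - x k) by ring]
    exact add_mem (htriv _ _) (hfix _ _)
  let F : Fin N → MvPolynomial (Fin N) A := fun j =>
    h j + (X j - C (y j)) - ∑ k, pderiv k (h j) * (X k - C (y k))
  have hFg : ∀ (g : G) j, act g (F j) = F (g • j) := fun g j => by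
    simp only [F, map_sub, map_add, map_sum, map_mul, hhg, act_X, act_C, hyg]
    congr 1
    refine Fintype.sum_equiv (MulAction.toPerm g) _ _ fun k => ?_
    rw [MulAction.toPerm_apply, ← pderiv_act, hhg]
  have hFy : ∀ j, eval y (F j) = eval y (h j) := fun j => by simp [F, map_sum]
  have hjac : ∀ j k, eval y (pderiv k (F j)) = if j = k then 1 else 0 := fun j k => by
    simp only [F, map_sub, map_add, map_sum, map_mul, pderiv_mul, eval_X, eval_C, sub_self, mul_zero, zero_add,
      pderiv_C, sub_zero, map_zero]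
    simp [pderiv_X, Pi.single_apply, apply_ite (eval y), eq_comm]
  obtain ⟨a, ha, hay⟩ : ∃ a : Fin N → A, (∀ j, eval a (F j) = 0) ∧ ∀ k, a k - y k ∈ maximalIdeal A := by
    have hu1 : IsUnit (Ideal.Quotient.mk (maximalIdeal A) (Hensel20.jac F y).det) := by
      have : Hensel20.jac F y = 1 := by
        ext j k; simp [Hensel20.jac, Matrix.one_apply, aeval_eq_eval, hjac]
      rw [this, Matrix.det_one, map_one]; exact isUnit_one
    obtain ⟨a, ha, hay⟩ := Hensel20.exists_root_of_jacobian (I := maximalIdeal A) F y (fun j => by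
      rw [aeval_eq_eval, hFy]
      have := eval_sub_mem y x hyx (h j)
      simpa using add_mem this (hx _ (hhK j))) hu1
    exact ⟨a, fun j => by simpa [aeval_eq_eval] using ha j, hay⟩
  have hax : ∀ k, a k - x k ∈ maximalIdeal A := fun k => by
    simpa using add_mem (hay k) (hyx k)
  have hag : ∀ (g : G) k, g • a k = a (g • k) := by
    intro g
    have heq : (fun k => g • a (g⁻¹ • k)) = a := by
      refine root_unique F _ _ (fun j => ?_) ha (fun k => ?_) (fun j k => ?_)
      · have h1 := eval_act g⁻¹ a (F j)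
        rw [hFg, ha, inv_inv] at h1
        have h2 := congrArg (g • ·) h1
        simpa using h2.symm
      · rw [show a k - g • a (g⁻¹ • k) = (a k - x k) - (g • a (g⁻¹ • k) - a (g⁻¹ • k)) -
          (a (g⁻¹ • k) - x (g⁻¹ • k)) - (x (g⁻¹ • k) - x k) by ring]
        exact sub_mem (sub_mem (sub_mem (hax _) (htriv _ _)) (hax _)) (hfix _ _)
      · rw [← hjac j k]
        refine eval_sub_mem _ _ (fun l => ?_) _
        rw [show g • a (g⁻¹ • l) - y l = (g • a (g⁻¹ • l) - a (g⁻¹ • l)) + (a (g⁻¹ • l) - x (g⁻¹ • l)) +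
          (x (g⁻¹ • l) - x l) - (y l - x l) by ring]
        exact sub_mem (add_mem (add_mem (htriv _ _) (hax _)) (hfix _ _)) (hyx _)
    intro k
    have := congrFun heq (g • k)
    simpa using this
  refine ⟨a, fun p hp => ?_, hag, hax⟩
  -- the ideal of values vanishes
  set I : Ideal A := K.map (eval a) with hI
  have hIm : I ≤ maximalIdeal A := Ideal.map_le_iff_le_comap.mpr fun q hq => by
    rw [Ideal.mem_comap]
    simpa using add_mem (eval_sub_mem a x hax q) (hx q hq)
  have hmem : ∀ q ∈ K, eval a q ∈ I := fun q hq => Ideal.mem_map_of_mem _ hq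
  have hII : I ^ 2 ≤ maximalIdeal A • I := by
    rw [sq, smul_eq_mul]; exact Ideal.mul_mono_left hIm
  have hsq : ∀ q ∈ K ^ 2, eval a q ∈ maximalIdeal A • I := fun q hq => hII <| by
    rw [hI, ← Ideal.map_pow]; exact Ideal.mem_map_of_mem _ hq
  let M : Fin N → Fin N → A := fun j k => eval a (pderiv k (h j))
  let z : Fin N → A := fun k => a k - y k
  have hha : ∀ j, eval a (h j) = ∑ k, M j k * z k - z j := fun j => by
    have := ha j
    simp only [F, map_sub, map_add, map_sum, map_mul, eval_X, eval_C] at this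
    linear_combination this
  have hMM : ∀ j k, ∑ l, M j l * M l k - M j k ∈ I := fun j k => by
    have h1 := hmem _ (Hensel20.pderiv_mem_of_mem_sq (hh _ (hhK j)) k)
    simp only [map_sub, map_sum, pderiv_mul, map_add, map_mul, Finset.sum_add_distrib] at h1
    have h2 : ∑ l, eval a (pderiv k (pderiv l (h j))) * eval a (h l) ∈ I :=
      sum_mem fun l _ => I.mul_mem_left _ (hmem _ (hhK l))
    have h3 := add_mem h1 h2
    rw [show ∑ l, M j l * M l k - M j k = -(eval a (pderiv k (h j)) -
      (∑ l, eval a (pderiv k (pderiv l (h j))) * eval a (h l) +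
        ∑ l, eval a (pderiv l (h j)) * eval a (pderiv k (h l))) +
      ∑ l, eval a (pderiv k (pderiv l (h j))) * eval a (h l)) by simp only [M]; ring]
    exact neg_mem h3
  have hh0 : ∀ j, eval a (h j) ∈ maximalIdeal A • I := fun j => by
    have h1 := hsq _ (hh _ (hhK j))
    simp only [map_sub, map_sum, map_mul, hha] at h1
    have h2 : ∑ k, z k * (∑ l, M j l * M l k - M j k) ∈ maximalIdeal A • I :=
      sum_mem fun k _ => Submodule.smul_mem_smul (hay k) (hMM j k)
    rw [hha]
    convert add_mem h1 h2 using 1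
    simp only [mul_sub, Finset.mul_sum, Finset.sum_sub_distrib]
    rw [Finset.sum_comm (f := fun k l => z k * (M j l * M l k))]
    simp only [M, mul_comm, mul_left_comm]
    ring
  have hle : I ≤ maximalIdeal A • I := Ideal.map_le_iff_le_comap.mpr fun q hq => by
    rw [Ideal.mem_comap]
    have h1 := hsq _ (hh q hq)
    rw [map_sub, map_sum] at h1
    have h2 : ∑ k, eval a (pderiv k q * h k) ∈ maximalIdeal A • I :=
      sum_mem fun k _ => by rw [map_mul]; exact Ideal.mul_mem_left _ _ (hh0 k)
    simpa using add_mem h1 h2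
  have hbot := Submodule.eq_bot_of_le_smul_of_le_jacobson_bot (maximalIdeal A) I (hfg.map _) hle
    (IsLocalRing.maximalIdeal_le_jacobson _)
  simpa [hbot] using hmem p hp

end Groth.Agent.EqHens25
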